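import Groth.Agent.AVLib.Descend

/-!
# Descent of constants and of triviality along a field extension, for pointed schemes
-/

set_option autoImplicit false
set_option backward.isDefEq.respectTransparency false
set_option linter.style.haveILetI false

universe u

open CategoryTheory CategoryTheory.Limits AlgebraicGeometry TopologicalSpace
open Groth.Agent.CubeLib Groth.Agent.AmpleLib Groth.Agent.PullbackMod Groth.Agent.ParaFLib

noncomputable section

namespace Groth.Agent.InvNearLib

/-- Being constant is surjectivity on global functions. -/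
theorem isConst_iff {R : CommRingCat.{u}} {X : Scheme.{u}} (f : X ⟶ Spec R) :
    IsConst f ↔ Function.Surjective f.appTop := by
  have h : ∀ r, (BCLib.secHom f ⊤).hom r = f.appTop ((Scheme.ΓSpecIso R).inv r) := fun r => by
    rw [BCLib.secHom, show (homOfLE (le_top : (⊤ : X.Opens) ≤ ⊤)) = 𝟙 _ from rfl, op_id, X.presheaf.map_id,
      Category.comp_id]
    rfl
  constructor
  · intro hc F
    obtain ⟨r, hr⟩ := hc F
    exact ⟨_, (h r).symm.trans hr⟩
  · intro hs F
    obtain ⟨a, ha⟩ := hs F
    refine ⟨(Scheme.ΓSpecIso R).hom a, (h _).trans ?_⟩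
    exact (congrArg _ (Iso.hom_inv_id_apply (Scheme.ΓSpecIso R) a)).trans ha

/-- A flat surjective morphism is injective on global functions. -/
theorem injective_appTop {X Y : Scheme.{u}} (p : X ⟶ Y) [Flat p] [Surjective p] :
    Function.Injective p.appTop.hom := by
  rw [injective_iff_map_eq_zero]
  intro s hs
  apply TopCat.Presheaf.section_ext Y.sheaf ⊤
  intro y _
  obtain ⟨x, rfl⟩ := p.surjective y
  algebraize [(p.stalkMap x).hom]
  haveI : IsLocalHom (algebraMap (Y.presheaf.stalk (p x)) (X.presheaf.stalk x)) :=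
    inferInstanceAs (IsLocalHom (p.stalkMap x).hom)
  haveI : Module.Flat (Y.presheaf.stalk (p x)) (X.presheaf.stalk x) := Flat.stalkMap p x
  haveI : Module.FaithfullyFlat (Y.presheaf.stalk (p x)) (X.presheaf.stalk x) :=
    Module.FaithfullyFlat.of_flat_of_isLocalHom
  apply FaithfulSMul.algebraMap_injective (Y.presheaf.stalk (p x)) (X.presheaf.stalk x)
  have h := Scheme.Hom.germ_stalkMap_apply p ⊤ x trivial s
  have h0 : (p.app ⊤).hom s = 0 := hs
  rw [h0, map_zero] at h
  refine h.trans (Eq.symm ?_)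
  exact (congrArg _ (map_zero _)).trans (map_zero _)

/-- Surjectivity on global functions descends along a faithfully flat base change, given a section. -/
theorem surjective_appTop_of_bc {V V' T T' : Scheme.{u}} {g : V' ⟶ V} {p' : V' ⟶ T'} {p : V ⟶ T} {e : T' ⟶ T}
    (hc : IsPullback g p' p e) [Flat e] [Surjective e] (x : T ⟶ V) (hx : x ≫ p = 𝟙 T)
    (h : Function.Surjective p'.appTop) : Function.Surjective p.appTop := by
  intro F
  haveI : Flat g := MorphismProperty.of_isPullback (P := @Flat) hc.flip ‹_›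
  haveI : Surjective g := MorphismProperty.of_isPullback (P := @Surjective) hc.flip ‹_›
  obtain ⟨b, hb⟩ := h (g.appTop F)
  let x' : T' ⟶ V' := hc.lift (e ≫ x) (𝟙 T') (by rw [Category.assoc, hx, Category.comp_id, Category.id_comp])
  have h1 : x' ≫ p' = 𝟙 T' := hc.lift_snd _ _ _
  have h2 : x' ≫ g = e ≫ x := hc.lift_fst _ _ _
  refine ⟨x.appTop F, injective_appTop g ?_⟩
  have hb' : b = e.appTop (x.appTop F) := by
    have e1 := congrArg x'.appTop hb
    rw [← CommRingCat.comp_apply, ← Scheme.Hom.comp_appTop, h1, ← CommRingCat.comp_apply, ← Scheme.Hom.comp_appTop,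
      h2, Scheme.Hom.comp_appTop] at e1
    simpa using e1
  show g.appTop (p.appTop (x.appTop F)) = g.appTop F
  rw [← CommRingCat.comp_apply p.appTop g.appTop, ← Scheme.Hom.comp_appTop, hc.w, Scheme.Hom.comp_appTop, ← hb, hb']
  rfl

/-- Pullback of sections of an invertible module along a flat surjection is injective. -/
theorem pullMap_ne_zero {V V' : Scheme.{u}} (g : V' ⟶ V) [Flat g] [Surjective g] {L : V.Modules}
    (hL : PicF.IsInvertible L) {σ : Γ(L, ⊤)} (hσ : σ ≠ 0) :
    pullMap g L (le_top : (⊤ : V'.Opens) ≤ g ⁻¹ᵁ ⊤) σ ≠ 0 := by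
  intro h0
  apply hσ
  haveI := Groth.Agent.InvExt.isQCoh_of_isInvertible hL
  refine TopCat.Presheaf.section_ext (⟨L.presheaf, L.isSheaf⟩ : TopCat.Sheaf Ab.{u} V.carrier) ⊤ σ 0 fun y hy => ?_
  obtain ⟨z, rfl⟩ := g.surjective y
  obtain ⟨b, hb⟩ := exists_stalk_gen hL (g z)
  obtain ⟨a, ha⟩ := hb.2 (L.presheaf.germ ⊤ (g z) hy σ)
  change a • b = _ at ha
  have h1 := pullStalk_germ' g L z (show g z ∈ (⊤ : V.Opens) from trivial) (W' := ⊤) trivial le_top (s := σ)
  rw [h0, map_zero, ← ha, pullStalk_smul] at h1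
  have h2 : g.stalkMap z a = 0 := (AmpleLib.bijective_pullStalk g z hb).1 (by
    show g.stalkMap z a • pullStalk g L z b = (0 : V'.presheaf.stalk z) • pullStalk g L z b
    rw [h1, zero_smul])
  algebraize [(g.stalkMap z).hom]
  haveI : IsLocalHom (algebraMap (V.presheaf.stalk (g z)) (V'.presheaf.stalk z)) :=
    inferInstanceAs (IsLocalHom (g.stalkMap z).hom)
  haveI : Module.Flat (V.presheaf.stalk (g z)) (V'.presheaf.stalk z) := Flat.stalkMap g z
  haveI : Module.FaithfullyFlat (V.presheaf.stalk (g z)) (V'.presheaf.stalk z) :=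
    Module.FaithfullyFlat.of_flat_of_isLocalHom
  have h3 : a = 0 := FaithfulSMul.algebraMap_injective (V.presheaf.stalk (g z)) (V'.presheaf.stalk z)
    (h2.trans (map_zero _).symm)
  rw [h3, zero_smul] at ha
  exact ha.symm.trans (map_zero _).symm

/-- Triviality descends along a field extension when the functions upstairs are constant. -/
theorem triv_of_bc {K K' : Type u} [Field K] [Field K'] [Algebra K K'] {V V' : Scheme.{u}}
    {p : V ⟶ Spec (CommRingCat.of K)} {p' : V' ⟶ Spec (CommRingCat.of K')} {g : V' ⟶ V}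
    (hc : IsPullback g p' p (Spec.map (CommRingCat.ofHom (algebraMap K K')))) [CompactSpace V] [QuasiSeparatedSpace V]
    [Nonempty V'] (hp' : Function.Surjective p'.appTop) {L : V.Modules} (hL : PicF.IsInvertible L)
    (h : Triv ((Scheme.Modules.pullback g).obj L)) : Triv L := by
  haveI : Surjective (Spec.map (CommRingCat.ofHom (algebraMap K K'))) :=
    ⟨fun z => ⟨Classical.arbitrary (PrimeSpectrum K'), Subsingleton.elim (α := PrimeSpectrum K) _ _⟩⟩
  haveI : Flat (Spec.map (CommRingCat.ofHom (algebraMap K K'))) := by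
    rw [HasRingHomProperty.Spec_iff (P := @Flat)]
    exact RingHom.flat_algebraMap_iff.2 inferInstance
  haveI : Flat g := MorphismProperty.of_isPullback (P := @Flat) hc.flip inferInstance
  haveI : Surjective g := MorphismProperty.of_isPullback (P := @Surjective) hc.flip inferInstance
  haveI := InvExt.isQCoh_of_isInvertible hL
  obtain ⟨τ', hτ'⟩ := AVLib.exists_ne_zero_of_triv h
  obtain ⟨σ, hσ⟩ := AVLib.exists_ne_zero_of_bc hc L hτ'
  obtain ⟨τ, hτ⟩ := h
  refine ⟨σ, gen_of_pullMap g hL (le_top : (⊤ : V'.Opens) ≤ g ⁻¹ᵁ ⊤)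
    (fun x _ => (g.surjective x).imp fun z hz => ⟨trivial, hz⟩) ?_⟩
  obtain ⟨a, ha⟩ := (hτ ⊤ le_rfl).2 (pullMap g L le_top σ)
  obtain ⟨b, rfl⟩ := hp' a
  have hb : b ≠ 0 := by
    rintro rfl
    refine pullMap_ne_zero g hL hσ ?_
    rw [← ha]
    simp
  have hu : IsUnit b := by
    let e : Γ(Spec (CommRingCat.of K'), ⊤) ≃+* K' :=
      (Scheme.ΓSpecIso (CommRingCat.of K')).commRingCatIsoToRingEquiv
    exact (isUnit_map_iff e b).1 (isUnit_iff_ne_zero.2 ((map_ne_zero_iff e e.injective).2 hb))
  have hτ₀ : Gen ⊤ (((Scheme.Modules.pullback g).obj L).presheaf.map (homOfLE (le_refl (⊤ : V'.Opens))).op τ) :=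
    hτ.res le_rfl
  rw [← ha]
  exact hτ₀.smul (hu.map p'.appTop.hom)

end Groth.Agent.InvNearLib
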