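import Groth.Agent.CubeLib.Cube
import Groth.Agent.AmpleEmb.SpreadAmple
import Groth.Agent.InvNearLib.Descend

/-!
# The theorem of the cube near a point of a Noetherian base, without integrality of the fibres
-/

set_option autoImplicit false
set_option backward.isDefEq.respectTransparency false
set_option linter.style.haveILetI false

universe u

open CategoryTheory CategoryTheory.Limits AlgebraicGeometry TopologicalSpace
open Groth.Agent.AmpleLib Groth.Agent.CubeLib Groth.Agent.PullbackMod Groth.Agent.ParaFLib Groth.Agent.FormalLib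

noncomputable section

namespace Groth.Agent.InvNearLib

variable {S X Y : Scheme.{u}} (fX : X ⟶ S) (fY : Y ⟶ S) [IsProper fX] [Flat fX] [IsProper fY] [Flat fY]
  [AlgebraicGeometry.IsNoetherian S] (x : S ⟶ X) (hx : x ≫ fX = 𝟙 S) (y : S ⟶ Y) (hy : y ≫ fY = 𝟙 S)
  (σ : Y ⟶ pullback fX fY) (hσ₁ : σ ≫ pullback.fst fX fY = fY ≫ x) (hσ₂ : σ ≫ pullback.snd fX fY = 𝟙 Y)
  (τ : X ⟶ pullback fX fY) (hτ₁ : τ ≫ pullback.fst fX fY = 𝟙 X) (hτ₂ : τ ≫ pullback.snd fX fY = fX ≫ y)
  {L : (pullback fX fY).Modules} (hL : PicF.IsInvertible L)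
  (hσ : Triv ((Scheme.Modules.pullback σ).obj L)) (hτ : Triv ((Scheme.Modules.pullback τ).obj L))

include hx hy hσ₁ hσ₂ hτ₁ hτ₂ hL hσ hτ

omit [AlgebraicGeometry.IsNoetherian S] in
/-- Triviality on the infinitesimal neighbourhoods of the fibre. -/
theorem triv_quot [IsLocallyNoetherian S] (s : S) (hX : IsConst (fX.fiberToSpecResidueField s))
    (hY : IsConst (fY.fiberToSpecResidueField s))
    (hfib : Triv ((Scheme.Modules.pullback ((pullback.fst fX fY ≫ fX).fiberι s)).obj L)) (n : ℕ) :
    Triv ((Scheme.Modules.pullback (pullback.fst (pullback.fst fX fY ≫ fX)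
      (Spec.map (CommRingCat.ofHom (Ideal.Quotient.mk (IsLocalRing.maximalIdeal (S.presheaf.stalk s) ^ (n + 1)))) ≫
        S.fromSpecStalk s))).obj L) := by
  let f := pullback.fst fX fY ≫ fX
  let B := CommRingCat.of (S.presheaf.stalk s ⧸ IsLocalRing.maximalIdeal (S.presheaf.stalk s) ^ (n + 1))
  obtain ⟨hB1, hB2⟩ := CubeLib.isArtinianRing_quot_pow (IsLocalRing.maximalIdeal (S.presheaf.stalk s)) n
  haveI : IsArtinianRing B := hB1
  haveI : IsLocalRing B := hB2
  let mk : S.presheaf.stalk s ⟶ B :=
    CommRingCat.ofHom (Ideal.Quotient.mk (IsLocalRing.maximalIdeal (S.presheaf.stalk s) ^ (n + 1)))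
  let j : Spec B ⟶ S := Spec.map mk ≫ S.fromSpecStalk s
  let φ₀ : B ⟶ CommRingCat.of (S.residueField s) :=
    CommRingCat.ofHom (Ideal.Quotient.lift _ (S.residue s).hom fun a ha =>
      (IsLocalRing.residue_eq_zero_iff a).2 (Ideal.pow_le_self (Nat.succ_ne_zero n) ha))
  have hφ₀ : Function.Surjective φ₀.hom := fun a => by
    obtain ⟨b, rfl⟩ := S.residue_surjective s a
    exact ⟨Ideal.Quotient.mk _ b, rfl⟩
  have hj : Spec.map φ₀ ≫ j = S.fromSpecResidueField s := by
    simp only [j, ← Category.assoc, ← Spec.map_comp]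
    rfl
  let gX := pullback.fst fX j
  let gY := pullback.fst fY j
  let fX' := pullback.snd fX j
  let fY' := pullback.snd fY j
  haveI : Flat fX' := MorphismProperty.pullback_snd _ _ inferInstance
  haveI : Flat fY' := MorphismProperty.pullback_snd _ _ inferInstance
  haveI : IsProper fX' := MorphismProperty.pullback_snd _ _ inferInstance
  haveI : IsProper fY' := MorphismProperty.pullback_snd _ _ inferInstance
  let p := pullback.fst fX' fY'
  let r := pullback.snd fX' fY'
  have hP : IsPullback p r fX' fY' := IsPullback.of_hasPullback _ _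
  let m : pullback fX' fY' ⟶ pullback fX fY := pullback.lift (p ≫ gX) (r ≫ gY) (by
    rw [Category.assoc, Category.assoc, pullback.condition, pullback.condition, ← Category.assoc, hP.w,
      Category.assoc])
  let x' : Spec B ⟶ pullback fX j := pullback.lift (j ≫ x) (𝟙 _) (by rw [Category.assoc, hx, Category.comp_id, Category.id_comp])
  let y' : Spec B ⟶ pullback fY j := pullback.lift (j ≫ y) (𝟙 _) (by rw [Category.assoc, hy, Category.comp_id, Category.id_comp])
  have hx' : x' ≫ fX' = 𝟙 _ := pullback.lift_snd _ _ _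
  have hy' : y' ≫ fY' = 𝟙 _ := pullback.lift_snd _ _ _
  let σ' : pullback fY j ⟶ pullback fX' fY' := pullback.lift (fY' ≫ x') (𝟙 _) (by
    rw [Category.assoc, hx', Category.comp_id, Category.id_comp])
  let τ' : pullback fX j ⟶ pullback fX' fY' := pullback.lift (𝟙 _) (fX' ≫ y') (by
    rw [Category.assoc, hy', Category.comp_id, Category.id_comp])
  have hsm : gY ≫ σ = σ' ≫ m := by
    apply pullback.hom_ext
    · simp only [m, p, gX, σ', x', Category.assoc, hσ₁, pullback.lift_fst, pullback.lift_fst_assoc, fY', gY]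
      rw [← Category.assoc, pullback.condition, Category.assoc]
    · simp only [m, r, gY, σ', Category.assoc, hσ₂, pullback.lift_snd, pullback.lift_snd_assoc, Category.comp_id]
      rw [Category.id_comp]
  have htm : gX ≫ τ = τ' ≫ m := by
    apply pullback.hom_ext
    · simp only [m, p, gX, τ', Category.assoc, hτ₁, pullback.lift_fst, pullback.lift_fst_assoc, Category.comp_id]
      rw [Category.id_comp]
    · simp only [m, r, gY, τ', y', Category.assoc, hτ₂, pullback.lift_snd, pullback.lift_snd_assoc, pullback.lift_fst,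
        fX', gX]
      rw [← Category.assoc, pullback.condition, Category.assoc]
  have hm : m ≫ f = (r ≫ fY') ≫ j := by
    show m ≫ pullback.fst fX fY ≫ fX = _
    rw [← Category.assoc m, pullback.lift_fst, Category.assoc, pullback.condition, ← Category.assoc, hP.w,
      Category.assoc]
  let g₀ := pullback.fst (r ≫ fY') (Spec.map φ₀)
  let cX : fX.fiber s ⟶ pullback fX j :=
    pullback.lift (fX.fiberι s) (fX.fiberToSpecResidueField s ≫ Spec.map φ₀) (by
      rw [Category.assoc, hj]; exact pullback.condition)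
  let cY : fY.fiber s ⟶ pullback fY j :=
    pullback.lift (fY.fiberι s) (fY.fiberToSpecResidueField s ≫ Spec.map φ₀) (by
      rw [Category.assoc, hj]; exact pullback.condition)
  have hcX : IsPullback cX (fX.fiberToSpecResidueField s) fX' (Spec.map φ₀) :=
    IsPullback.of_right (by rw [pullback.lift_fst, hj]; exact IsPullback.of_hasPullback fX _)
      (pullback.lift_snd _ _ _) (IsPullback.of_hasPullback fX j)
  have hcY : IsPullback cY (fY.fiberToSpecResidueField s) fY' (Spec.map φ₀) :=
    IsPullback.of_right (by rw [pullback.lift_fst, hj]; exact IsPullback.of_hasPullback fY _)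
      (pullback.lift_snd _ _ _) (IsPullback.of_hasPullback fY j)
  have hT : Triv ((Scheme.Modules.pullback m).obj L) := by
    refine triv_artin (φ₀ := φ₀) hφ₀ hP hcX hcY (IsPullback.of_hasPullback _ (Spec.map φ₀)) hX hY
      x' hx' y' hy' σ' (pullback.lift_fst _ _ _) (pullback.lift_snd _ _ _) τ' (pullback.lift_fst _ _ _)
      (pullback.lift_snd _ _ _) _ (isInvertible_pullback _ hL) ?_ ?_ ?_
    · exact (triv_pullback_comp_iff σ' m rfl).2
        ((triv_pullback_comp_iff gY σ hsm).1 (hσ.pullback gY (isInvertible_pullback _ hL)))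
    · exact (triv_pullback_comp_iff τ' m rfl).2
        ((triv_pullback_comp_iff gX τ htm).1 (hτ.pullback gX (isInvertible_pullback _ hL)))
    · let l : pullback (r ≫ fY') (Spec.map φ₀) ⟶ f.fiber s :=
        pullback.lift (g₀ ≫ m) (pullback.snd _ _) (by
          rw [Category.assoc, hm, ← hj, ← Category.assoc g₀, pullback.condition, Category.assoc])
      exact (triv_pullback_comp_iff g₀ m rfl).2 ((triv_pullback_comp_iff l (f.fiberι s)
        (pullback.lift_fst _ _ _)).1 (hfib.pullback l (isInvertible_pullback _ hL)))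
  let u₁ : pullback f j ⟶ pullback fX j := pullback.lift (pullback.fst f j ≫ pullback.fst fX fY) (pullback.snd f j) (by
    rw [Category.assoc]; exact pullback.condition)
  let u₂ : pullback f j ⟶ pullback fY j := pullback.lift (pullback.fst f j ≫ pullback.snd fX fY) (pullback.snd f j) (by
    rw [Category.assoc, ← pullback.condition (f := fX)]; exact pullback.condition)
  let u : pullback f j ⟶ pullback fX' fY' := pullback.lift u₁ u₂ (by rw [pullback.lift_snd, pullback.lift_snd])
  have hu : u ≫ m = pullback.fst f j := by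
    apply pullback.hom_ext
    · simp only [m, p, gX, u, u₁, Category.assoc, pullback.lift_fst, pullback.lift_fst_assoc]
    · simp only [m, r, gY, u, u₂, Category.assoc, pullback.lift_fst, pullback.lift_snd, pullback.lift_snd_assoc]
  exact (triv_pullback_comp_iff u m hu).1 (hT.pullback u (isInvertible_pullback _ hL))

/-- Near a point with trivial fibre and constant functions on the two fibres the module is trivial. -/
theorem exists_gen_nhd (s : S) (hX : IsConst (fX.fiberToSpecResidueField s))
    (hY : IsConst (fY.fiberToSpecResidueField s))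
    (hfib : Triv ((Scheme.Modules.pullback ((pullback.fst fX fY ≫ fX).fiberι s)).obj L)) :
    ∃ U : S.Opens, s ∈ U ∧ ∃ t : Γ(L, (pullback.fst fX fY ≫ fX) ⁻¹ᵁ U), Gen ((pullback.fst fX fY ≫ fX) ⁻¹ᵁ U) t := by
  classical
  let f := pullback.fst fX fY ≫ fX
  haveI : IsProper f := inferInstanceAs (IsProper (pullback.fst fX fY ≫ fX))
  haveI : Flat f := inferInstanceAs (Flat (pullback.fst fX fY ≫ fX))
  let R := S.presheaf.stalk s
  let P₁ := AmpleEmb.locBase f s
  let g : P₁ ⟶ pullback fX fY := pullback.fst f (S.fromSpecStalk s)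
  letI : P₁.Over (Spec (CommRingCat.of R)) := ⟨pullback.snd f (S.fromSpecStalk s)⟩
  haveI : IsProper (str R P₁) := MorphismProperty.pullback_snd _ _ inferInstance
  haveI : Flat (str R P₁) := MorphismProperty.pullback_snd _ _ inferInstance
  obtain ⟨t, ht⟩ := exists_sec_gen_of_quot (R := R) (P := (Scheme.Modules.pullback g).obj L)
    (isInvertible_pullback g hL) (IsLocalRing.closedPoint R) fun n => by
    let φ := Spec.map (CommRingCat.ofHom (Ideal.Quotient.mk ((IsLocalRing.closedPoint R).asIdeal ^ (n + 1))))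
    let k : pullback (str R P₁) φ ⟶ pullback f (φ ≫ S.fromSpecStalk s) :=
      pullback.lift (pullback.fst _ _ ≫ g) (pullback.snd _ _) (by
        rw [Category.assoc, show g ≫ f = str R P₁ ≫ S.fromSpecStalk s from pullback.condition]
        exact pullback.condition_assoc (S.fromSpecStalk s))
    exact (triv_pullback_comp_iff _ g rfl).2 ((triv_pullback_comp_iff k (pullback.fst f _)
      (pullback.lift_fst _ _ _)).1 ((triv_quot fX fY x hx y hy σ hσ₁ hσ₂ τ hτ₁ hτ₂ hL hσ hτ s hX hY hfib n).pullback k
        (isInvertible_pullback _ hL)))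
  obtain ⟨V, s₁, -, hsV, hs₁⟩ := AmpleEmb.exists_section_nbhd f s hL (sec t)
  let G : (pullback fX fY).Opens :=
    ⨆ p : {W : (pullback fX fY).Opens // ∃ h : W ≤ f ⁻¹ᵁ V, Gen W (L.presheaf.map (homOfLE h).op s₁)}, p.1
  have hG : ∀ v, f v = s → v ∈ G := fun v hv => by
    obtain ⟨z, rfl⟩ := AmpleEmb.mem_range_locBase f s (x := v) (hv ▸ specializes_rfl)
    have hzq : str R P₁ z = IsLocalRing.closedPoint R := by
      refine (S.fromSpecStalk s).isEmbedding.injective ?_
      refine Eq.trans ?_ (S.fromSpecStalk_closedPoint (x := s)).symm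
      refine Eq.trans ?_ hv
      show (str R P₁ ≫ S.fromSpecStalk s) z = (g ≫ f) z
      exact congrArg (fun e : P₁ ⟶ S => e z) pullback.condition.symm
    have hz : g z ∈ f ⁻¹ᵁ V := show f (g z) ∈ V from hv ▸ hsV
    have h1 := (mem_genLocus_iff (isInvertible_pullback g hL)).1 (ht z hzq)
    rw [← hs₁ z hz] at h1
    haveI := InvExt.isQCoh_of_isInvertible hL
    obtain ⟨e, he⟩ := exists_stalk_gen hL (g z)
    obtain ⟨a, ha⟩ := he.2 (L.presheaf.germ (f ⁻¹ᵁ V) (g z) hz s₁)
    change a • e = _ at ha
    rw [← ha, pullStalk_smul, AmpleLib.bijective_smul_iff (AmpleLib.bijective_pullStalk g z he)] at h1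
    obtain ⟨W, hW, hzW, hg⟩ := (AmpleEmb.exists_gen_iff hL s₁ hz).1 (by
      rw [← ha]
      exact (AmpleLib.bijective_smul_iff he _).2 (isUnit_of_map_unit (g.stalkMap z).hom a h1))
    exact Opens.mem_iSup.2 ⟨⟨W, hW, hg⟩, hzW⟩
  obtain ⟨U, hsU, hU⟩ := BCLib.exists_open_preimage_le f G s hG
  have hle : f ⁻¹ᵁ U ≤ f ⁻¹ᵁ V := hU.trans (iSup_le fun p => p.2.choose)
  refine ⟨U, hsU, L.presheaf.map (homOfLE hle).op s₁,
    gen_of_cover (fun p : {W : (pullback fX fY).Opens // ∃ h : W ≤ f ⁻¹ᵁ V,
      Gen W (L.presheaf.map (homOfLE h).op s₁)} => f ⁻¹ᵁ U ⊓ p.1) (fun _ => inf_le_left)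
      (fun v hv => ?_) fun p => ?_⟩
  · obtain ⟨p, hp⟩ := Opens.mem_iSup.1 (hU hv)
    exact Opens.mem_iSup.2 ⟨p, hv, hp⟩
  · obtain ⟨h, hg⟩ := p.2
    rw [ParaFLib.res_res]
    have h1 := hg.res (inf_le_right : f ⁻¹ᵁ U ⊓ p.1 ≤ p.1)
    rwa [ParaFLib.res_res] at h1

end Groth.Agent.InvNearLib
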