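import Groth.Agent.CubeGenLib.Model

/-!
# Models of an invertible module with trivial slices over a limit
-/

set_option autoImplicit false
set_option backward.isDefEq.respectTransparency false
set_option linter.style.haveILetI false
set_option linter.unusedSectionVars false

universe u

open CategoryTheory CategoryTheory.Limits AlgebraicGeometry
open Groth.Agent.CubeLib Groth.Agent.AmpleLib Groth.Agent.CubeGenLib

noncomputable section

namespace Groth.Agent.InvNearLib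

variable {I : Type u} [SmallCategory I] [IsCofiltered I] {D : I ⥤ Scheme.{u}} {c : Cone D}
  [∀ {i j} (a : i ⟶ j), IsAffineHom (D.map a)] [∀ i, IsAffine (D.obj i)]
  {X Y : Scheme.{u}} {fX : X ⟶ c.pt} {x : c.pt ⟶ X} {fY : Y ⟶ c.pt} {y : c.pt ⟶ Y}
  {i : I} (A : PM D c fX x i) (B : PM D c fY y i) (hc : IsLimit c)

include A B hc in
/-- A datum with trivial slices comes from a stage. -/
theorem exists_model
    (σ : Y ⟶ pullback fX fY) (hσ₁ : σ ≫ pullback.fst fX fY = fY ≫ x) (hσ₂ : σ ≫ pullback.snd fX fY = 𝟙 Y)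
    (τ : X ⟶ pullback fX fY) (hτ₁ : τ ≫ pullback.fst fX fY = 𝟙 X) (hτ₂ : τ ≫ pullback.snd fX fY = fX ≫ y)
    {L : (pullback fX fY).Modules} (hL : PicF.IsInvertible L)
    (hσ : Triv ((Scheme.Modules.pullback σ).obj L)) (hτ : Triv ((Scheme.Modules.pullback τ).obj L)) :
    ∃ (j : I) (A' : PM D c fX x j) (B' : PM D c fY y j) (M : (pullback A'.hom B'.hom).Modules),
      PicF.IsInvertible M ∧
      Triv ((Scheme.Modules.pullback (sigma A' B')).obj M) ∧ Triv ((Scheme.Modules.pullback (tau A' B')).obj M) ∧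
      Nonempty ((Scheme.Modules.pullback (qP A' B')).obj M ≅ L) := by
  let f₀ := pullback.fst A.hom B.hom ≫ A.hom
  haveI : IsProper f₀ := inferInstanceAs (IsProper (pullback.fst A.hom B.hom ≫ A.hom))
  haveI : CompactSpace ↥(pullback A.hom B.hom) := compactSpace_obj f₀
  let E := AffLim.baseChange D i f₀
  haveI : ∀ k, QuasiSeparatedSpace (E.obj k) := fun k =>
    quasiSeparatedSpace_of_quasiSeparated (pullback.snd f₀ (D.map k.hom))
  obtain ⟨hcE⟩ := FlatStage.nonempty_isLimit_vCone D c i f₀ (isPullback_qP A B) hc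
  obtain ⟨k, M, hM, ⟨e⟩⟩ := PicLimLib.exists_invertible_stage E _ hcE hL
  let A₁ := A.move k.hom
  let B₁ := B.move k.hom
  let m : pullback A₁.hom B₁.hom ⟶ E.obj k :=
    pullback.lift (dP A B k.hom) (pullback.fst A₁.hom B₁.hom ≫ A₁.hom) (by
      show _ ≫ pullback.fst A.hom B.hom ≫ A.hom = (_ ≫ pullback.snd A.hom (D.map k.hom)) ≫ _
      rw [dP, pullback.map, pullback.lift_fst_assoc, Category.assoc, Category.assoc, pullback.condition])
  have hm : qP A₁ B₁ ≫ m = FlatStage.vMap D c i f₀ (isPullback_qP A B) k := by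
    apply pullback.hom_ext
    · rw [Category.assoc, pullback.lift_fst, qP_dP, FlatStage.vMap_fst]
    · rw [Category.assoc, pullback.lift_snd, FlatStage.vMap_snd]
      exact (isPullback_qP A₁ B₁).w
  let M₁ := (Scheme.Modules.pullback m).obj M
  have hM₁ : PicF.IsInvertible M₁ := isInvertible_pullback m hM
  have eL : (Scheme.Modules.pullback (qP A₁ B₁)).obj M₁ ≅ L :=
    (Scheme.Modules.pullbackComp (qP A₁ B₁) m).app M ≪≫ (Scheme.Modules.pullbackCongr hm).app M ≪≫ e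
  -- the first slice
  obtain ⟨j₂, φ₂, hs⟩ := exists_triv_move hc B₁ (isInvertible_pullback (sigma A₁ B₁) hM₁)
    ((triv_pullback_comp_iff B₁.q (sigma A₁ B₁) (comp_sigma A₁ B₁ σ hσ₁ hσ₂).symm).2
      ((triv_pullback_comp_iff σ (qP A₁ B₁) rfl).1 (hσ.of_iso ((Scheme.Modules.pullback σ).mapIso eL.symm))))
  let A₂ := A₁.move φ₂
  let B₂ := B₁.move φ₂
  let M₂ := (Scheme.Modules.pullback (dP A₁ B₁ φ₂)).obj M₁
  have hM₂ : PicF.IsInvertible M₂ := isInvertible_pullback _ hM₁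
  have hs₂ : Triv ((Scheme.Modules.pullback (sigma A₂ B₂)).obj M₂) :=
    (triv_pullback_comp_iff _ _ (sigma_dP A₁ B₁ φ₂)).2 ((triv_pullback_comp_iff _ _ rfl).1 hs)
  have eL₂ : (Scheme.Modules.pullback (qP A₂ B₂)).obj M₂ ≅ L :=
    (Scheme.Modules.pullbackComp (qP A₂ B₂) (dP A₁ B₁ φ₂)).app M₁ ≪≫
      (Scheme.Modules.pullbackCongr (qP_dP A₁ B₁ φ₂)).app M₁ ≪≫ eL
  -- the second slice
  obtain ⟨j₃, φ₃, ht⟩ := exists_triv_move hc A₂ (isInvertible_pullback (tau A₂ B₂) hM₂)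
    ((triv_pullback_comp_iff A₂.q (tau A₂ B₂) (comp_tau A₂ B₂ τ hτ₁ hτ₂).symm).2
      ((triv_pullback_comp_iff τ (qP A₂ B₂) rfl).1 (hτ.of_iso ((Scheme.Modules.pullback τ).mapIso eL₂.symm))))
  let A₃ := A₂.move φ₃
  let B₃ := B₂.move φ₃
  let M₃ := (Scheme.Modules.pullback (dP A₂ B₂ φ₃)).obj M₂
  refine ⟨j₃, A₃, B₃, M₃, isInvertible_pullback _ hM₂, ?_, ?_, ⟨?_⟩⟩
  · exact (triv_pullback_comp_iff _ _ (sigma_dP A₂ B₂ φ₃)).2
      ((triv_pullback_comp_iff _ _ rfl).1 (hs₂.pullback _ (isInvertible_pullback _ hM₂)))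
  · exact (triv_pullback_comp_iff _ _ (tau_dP A₂ B₂ φ₃)).2 ((triv_pullback_comp_iff _ _ rfl).1 ht)
  · exact (Scheme.Modules.pullbackComp (qP A₃ B₃) (dP A₂ B₂ φ₃)).app M₂ ≪≫
      (Scheme.Modules.pullbackCongr (qP_dP A₂ B₂ φ₃)).app M₂ ≪≫ eL₂

end Groth.Agent.InvNearLib
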