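import Groth.Agent.InvNearLib.Local
import Groth.Agent.InvNearLib.Model
import Groth.Agent.ParaFLib.Extend

/-!
# An invertible module on a product with trivial slices is trivial near a point with trivial fibre
-/

set_option autoImplicit false
set_option backward.isDefEq.respectTransparency false
set_option linter.style.haveILetI false
set_option linter.unusedSectionVars false

universe u

open CategoryTheory CategoryTheory.Limits AlgebraicGeometry TopologicalSpace
open Groth.Agent.CubeLib Groth.Agent.AmpleLib Groth.Agent.PullbackMod Groth.Agent.ParaFLib Groth.Agent.CubeGenLib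

noncomputable section

namespace Groth.Agent.InvNearLib

/-- Every base change has only functions coming from the base. -/
def UnivConst {X S : Scheme.{u}} (f : X ⟶ S) : Prop :=
  ∀ {Z T : Scheme.{u}} (a : Z ⟶ X) (b : Z ⟶ T) (t : T ⟶ S), IsPullback a b f t → Function.Surjective b.appTop

theorem univConst_of_isIso_app {X S : Scheme.{u}} (f : X ⟶ S)
    (h : ∀ (T : Scheme.{u}) (t : T ⟶ S) (U : T.Opens), IsIso ((pullback.snd f t).app U)) : UnivConst f := by
  intro Z T a b t hc
  haveI : IsIso (pullback.snd f t).appTop := h T t ⊤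
  rw [← hc.isoPullback_hom_snd, Scheme.Hom.comp_appTop]
  exact (ConcreteCategory.bijective_of_isIso (hc.isoPullback.hom.appTop)).2.comp
    (ConcreteCategory.bijective_of_isIso ((pullback.snd f t).appTop)).2

theorem UnivConst.of_isPullback {X S X' S' : Scheme.{u}} {f : X ⟶ S} (h : UnivConst f) {g : X' ⟶ X} {f' : X' ⟶ S'}
    {e : S' ⟶ S} (hc : IsPullback g f' f e) : UnivConst f' :=
  fun a b t hb => h (a ≫ g) b (t ≫ e) (hb.paste_horiz hc)

theorem UnivConst.prod {X Y S : Scheme.{u}} {f : X ⟶ S} {g : Y ⟶ S} (hf : UnivConst f) (hg : UnivConst g) :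
    UnivConst (pullback.fst f g ≫ f) := by
  intro Z T a b t hc
  let l : Z ⟶ pullback f t := pullback.lift (a ≫ pullback.fst f g) b (by rw [Category.assoc]; exact hc.w)
  have h1 : IsPullback a l (pullback.fst f g) (pullback.fst f t) := by
    refine IsPullback.of_bot ?_ (pullback.lift_fst _ _ _).symm (IsPullback.of_hasPullback f t)
    rw [pullback.lift_snd]
    exact hc
  have h2 : Function.Surjective l.appTop :=
    hg (a ≫ pullback.snd f g) l (pullback.fst f t ≫ f)
      (h1.paste_horiz (IsPullback.of_hasPullback f g).flip)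
  rw [← show l ≫ pullback.snd f t = b from pullback.lift_snd _ _ _, Scheme.Hom.comp_appTop]
  exact h2.comp (hf _ _ t (IsPullback.of_hasPullback f t))

instance surjective_spec_residueFieldMap {S S₀ : Scheme.{u}} (g : S ⟶ S₀) (s : S) :
    Surjective (Spec.map (g.residueFieldMap s)) :=
  ⟨fun z => ⟨IsLocalRing.closedPoint _, Subsingleton.elim (α := PrimeSpectrum (S₀.residueField (g s))) _ _⟩⟩

instance flat_spec_residueFieldMap {S S₀ : Scheme.{u}} (g : S ⟶ S₀) (s : S) :
    Flat (Spec.map (g.residueFieldMap s)) := by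
  rw [HasRingHomProperty.Spec_iff (P := @Flat)]
  letI : Algebra (S₀.residueField (g s)) (S.residueField s) := (g.residueFieldMap s).hom.toAlgebra
  exact RingHom.flat_algebraMap_iff.2 (inferInstance : Module.Flat (S₀.residueField (g s)) (S.residueField s))

variable {S X Y : Scheme.{u}} (fX : X ⟶ S) (fY : Y ⟶ S)
  [IsProper fX] [Flat fX] [LocallyOfFinitePresentation fX]
  [IsProper fY] [Flat fY] [LocallyOfFinitePresentation fY]
  (hfX : UnivConst fX) (hfY : UnivConst fY)
  (x : S ⟶ X) (hx : x ≫ fX = 𝟙 S) (y : S ⟶ Y) (hy : y ≫ fY = 𝟙 S)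
  (σ : Y ⟶ pullback fX fY) (hσ₁ : σ ≫ pullback.fst fX fY = fY ≫ x) (hσ₂ : σ ≫ pullback.snd fX fY = 𝟙 Y)
  (τ : X ⟶ pullback fX fY) (hτ₁ : τ ≫ pullback.fst fX fY = 𝟙 X) (hτ₂ : τ ≫ pullback.snd fX fY = fX ≫ y)
  {L : (pullback fX fY).Modules} (hL : PicF.IsInvertible L)
  (hσ : Triv ((Scheme.Modules.pullback σ).obj L)) (hτ : Triv ((Scheme.Modules.pullback τ).obj L))

include hfX hfY hx hy hσ₁ hσ₂ hτ₁ hτ₂ hL hσ hτ

/-- Over an affine base. -/
theorem affine_near [IsAffine S] (z : S)
    (hz : Triv ((Scheme.Modules.pullback ((pullback.fst fX fY ≫ fX).fiberι z)).obj L)) :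
    ∃ U : S.Opens, z ∈ U ∧ ∃ s : Γ(L, (pullback.fst fX fY ≫ fX) ⁻¹ᵁ U), Gen ((pullback.fst fX fY ≫ fX) ⁻¹ᵁ U) s := by
  let c := zConeS S
  have hc : IsLimit c := isLimitZConeS S
  obtain ⟨i₁, ⟨A₁⟩⟩ := exists_pm (c := c) (fX := fX) hc hx
  obtain ⟨i₂, ⟨B₁⟩⟩ := exists_pm (c := c) (fX := fY) hc hy
  obtain ⟨j, A, B, M, hM, hs, ht, ⟨e⟩⟩ := exists_model (A₁.move (IsCofiltered.minToLeft i₁ i₂))
    (B₁.move (IsCofiltered.minToRight i₁ i₂)) hc σ hσ₁ hσ₂ τ hτ₁ hτ₂ hL hσ hτ
  let g : S ⟶ (FPModelLib.zSys Γ(S, ⊤)).obj j := c.π.app j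
  let f := pullback.fst fX fY ≫ fX
  let f₀ := pullback.fst A.hom B.hom ≫ A.hom
  have hq : IsPullback (qP A B) f f₀ g := isPullback_qP A B
  haveI : IsProper f := inferInstanceAs (IsProper (pullback.fst fX fY ≫ fX))
  haveI : IsProper f₀ := inferInstanceAs (IsProper (pullback.fst A.hom B.hom ≫ A.hom))
  have hA : IsConst (A.hom.fiberToSpecResidueField (g z)) := by
    refine (isConst_iff _).2 (surjective_appTop_of_bc (isPullback_fiberToSpecResidueField_of_isPullback A.isPullback z)
      (pullback.lift (((FPModelLib.zSys Γ(S, ⊤)).obj j).fromSpecResidueField (g z) ≫ A.sec) (𝟙 _) (by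
        rw [Category.assoc, A.sec_hom, Category.comp_id, Category.id_comp])) (pullback.lift_snd _ _ _) ?_)
    exact hfX _ _ _ (IsPullback.of_hasPullback fX (S.fromSpecResidueField z))
  have hB : IsConst (B.hom.fiberToSpecResidueField (g z)) := by
    refine (isConst_iff _).2 (surjective_appTop_of_bc (isPullback_fiberToSpecResidueField_of_isPullback B.isPullback z)
      (pullback.lift (((FPModelLib.zSys Γ(S, ⊤)).obj j).fromSpecResidueField (g z) ≫ B.sec) (𝟙 _) (by
        rw [Category.assoc, B.sec_hom, Category.comp_id, Category.id_comp])) (pullback.lift_snd _ _ _) ?_)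
    exact hfY _ _ _ (IsPullback.of_hasPullback fY (S.fromSpecResidueField z))
  have hfib : Triv ((Scheme.Modules.pullback (f₀.fiberι (g z))).obj M) := by
    have H := isPullback_fiberToSpecResidueField_of_isPullback hq z
    let m : f.fiber z ⟶ f₀.fiber (g z) :=
      pullback.map _ _ _ _ (qP A B) (Spec.map (g.residueFieldMap z)) g hq.w.symm (by simp)
    have hm : m ≫ f₀.fiberι (g z) = f.fiberι z ≫ qP A B := pullback.lift_fst _ _ _
    have h1 : Triv ((Scheme.Modules.pullback m).obj ((Scheme.Modules.pullback (f₀.fiberι (g z))).obj M)) := by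
      rw [triv_pullback_comp_iff m (f₀.fiberι (g z)) hm, ← triv_pullback_comp_iff (f.fiberι z) (qP A B) rfl]
      exact hz.of_iso ((Scheme.Modules.pullback (f.fiberι z)).mapIso e.symm)
    haveI : IsProper (f₀.fiberToSpecResidueField (g z)) := MorphismProperty.pullback_snd _ _ ‹_›
    haveI : CompactSpace (f₀.fiber (g z)) :=
      QuasiCompact.compactSpace_of_compactSpace (f₀.fiberToSpecResidueField (g z))
    haveI : QuasiSeparatedSpace (f₀.fiber (g z)) :=
      quasiSeparatedSpace_of_quasiSeparated (f₀.fiberToSpecResidueField (g z))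
    haveI : Nonempty ↥(pullback f (S.fromSpecResidueField z)) := by
      refine ⟨(pullback.lift (S.fromSpecResidueField z ≫ x ≫ τ) (𝟙 _) ?_ :
        Spec (S.residueField z) ⟶ f.fiber z) (IsLocalRing.closedPoint _)⟩
      simp only [f, Category.assoc, reassoc_of% hτ₁, hx, Category.comp_id, Category.id_comp]
    letI : Algebra (((FPModelLib.zSys Γ(S, ⊤)).obj j).residueField (g z)) (S.residueField z) :=
      (g.residueFieldMap z).hom.toAlgebra
    exact triv_of_bc (K := ((FPModelLib.zSys Γ(S, ⊤)).obj j).residueField (g z)) (K' := S.residueField z) H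
      ((hfX.prod hfY) _ _ _ (IsPullback.of_hasPullback f (S.fromSpecResidueField z))) (isInvertible_pullback _ hM) h1
  have hσ₀ : sigma A B ≫ pullback.fst A.hom B.hom = B.hom ≫ A.sec := pullback.lift_fst _ _ _
  have hσ₀' : sigma A B ≫ pullback.snd A.hom B.hom = 𝟙 _ := pullback.lift_snd _ _ _
  have hτ₀ : tau A B ≫ pullback.fst A.hom B.hom = 𝟙 _ := pullback.lift_fst _ _ _
  have hτ₀' : tau A B ≫ pullback.snd A.hom B.hom = A.hom ≫ B.sec := pullback.lift_snd _ _ _
  haveI : AlgebraicGeometry.IsNoetherian ((FPModelLib.zSys Γ(S, ⊤)).obj j) := { }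
  obtain ⟨U₀, hzU, s, hgen⟩ := exists_gen_nhd A.hom B.hom A.sec A.sec_hom B.sec B.sec_hom _ hσ₀ hσ₀' _ hτ₀ hτ₀'
    hM hs ht (g z) hA hB hfib
  have hle : f ⁻¹ᵁ (g ⁻¹ᵁ U₀) ≤ qP A B ⁻¹ᵁ (f₀ ⁻¹ᵁ U₀) := fun p hp => by
    show f₀ (qP A B p) ∈ U₀
    rw [← Scheme.Hom.comp_apply, hq.w, Scheme.Hom.comp_apply]
    exact hp
  exact ⟨g ⁻¹ᵁ U₀, hzU, _, gen_of_modIso e (gen_pullMap (qP A B) hM hgen hle)⟩

/-- Over any base. -/
theorem exists_gen_near (z : S)
    (hz : Triv ((Scheme.Modules.pullback ((pullback.fst fX fY ≫ fX).fiberι z)).obj L)) :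
    ∃ U : S.Opens, z ∈ U ∧ ∃ s : Γ(L, (pullback.fst fX fY ≫ fX) ⁻¹ᵁ U), Gen ((pullback.fst fX fY ≫ fX) ⁻¹ᵁ U) s := by
  obtain ⟨_, ⟨U : S.Opens, (hU : IsAffineOpen U), rfl⟩, hzU, -⟩ :=
    S.isBasis_affineOpens.exists_subset_of_mem_open (Set.mem_univ z) isOpen_univ
  haveI : IsAffine (U : Scheme.{u}) := hU
  let fX' := pullback.snd fX U.ι
  let fY' := pullback.snd fY U.ι
  haveI : IsProper fX' := MorphismProperty.pullback_snd _ _ inferInstance
  haveI : IsProper fY' := MorphismProperty.pullback_snd _ _ inferInstance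
  haveI : Flat fX' := MorphismProperty.pullback_snd _ _ inferInstance
  haveI : Flat fY' := MorphismProperty.pullback_snd _ _ inferInstance
  haveI : LocallyOfFinitePresentation fX' := MorphismProperty.pullback_snd _ _ inferInstance
  haveI : LocallyOfFinitePresentation fY' := MorphismProperty.pullback_snd _ _ inferInstance
  have hA : IsPullback (pullback.fst fX U.ι) fX' fX U.ι := IsPullback.of_hasPullback _ _
  have hB : IsPullback (pullback.fst fY U.ι) fY' fY U.ι := IsPullback.of_hasPullback _ _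
  let m := prodMap hA hB
  let f := pullback.fst fX fY ≫ fX
  let f' := pullback.fst fX' fY' ≫ fX'
  have hm : IsPullback m f' f U.ι := isPullback_prodMap hA hB
  haveI : IsOpenImmersion m := MorphismProperty.of_isPullback hm.flip inferInstance
  let x' : (U : Scheme.{u}) ⟶ pullback fX U.ι :=
    pullback.lift (U.ι ≫ x) (𝟙 _) (by rw [Category.assoc, hx, Category.comp_id, Category.id_comp])
  let y' : (U : Scheme.{u}) ⟶ pullback fY U.ι :=
    pullback.lift (U.ι ≫ y) (𝟙 _) (by rw [Category.assoc, hy, Category.comp_id, Category.id_comp])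
  have hx' : x' ≫ fX' = 𝟙 _ := pullback.lift_snd _ _ _
  have hy' : y' ≫ fY' = 𝟙 _ := pullback.lift_snd _ _ _
  let σ' : pullback fY U.ι ⟶ pullback fX' fY' :=
    pullback.lift (fY' ≫ x') (𝟙 _) (by rw [Category.assoc, hx', Category.comp_id, Category.id_comp])
  let τ' : pullback fX U.ι ⟶ pullback fX' fY' :=
    pullback.lift (𝟙 _) (fX' ≫ y') (by rw [Category.assoc, hy', Category.comp_id, Category.id_comp])
  have hσm : σ' ≫ m = pullback.fst fY U.ι ≫ σ := by
    apply pullback.hom_ext
    · simp only [σ', x', m, prodMap, Category.assoc, pullback.lift_fst, pullback.lift_fst_assoc, hσ₁, fY']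
      rw [← Category.assoc, ← pullback.condition, Category.assoc]
    · simp only [σ', m, prodMap, Category.assoc, pullback.lift_snd, pullback.lift_snd_assoc, hσ₂, Category.comp_id]
      exact Category.id_comp _
  have hτm : τ' ≫ m = pullback.fst fX U.ι ≫ τ := by
    apply pullback.hom_ext
    · simp only [τ', m, prodMap, Category.assoc, pullback.lift_fst, pullback.lift_fst_assoc, hτ₁, Category.comp_id]
      exact Category.id_comp _
    · simp only [τ', y', m, prodMap, Category.assoc, pullback.lift_snd, pullback.lift_snd_assoc, pullback.lift_fst,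
        hτ₂, fX']
      rw [← Category.assoc, ← pullback.condition, Category.assoc]
  let z' : (U : Scheme.{u}) := ⟨z, hzU⟩
  have hz' : Triv ((Scheme.Modules.pullback (f'.fiberι z')).obj ((Scheme.Modules.pullback m).obj L)) := by
    let k : f'.fiber z' ⟶ f.fiber (U.ι z') :=
      pullback.map _ _ _ _ m (Spec.map (U.ι.residueFieldMap z')) U.ι hm.w.symm
        (U.ι.SpecMap_residueFieldMap_fromSpecResidueField z').symm
    have hk : k ≫ f.fiberι (U.ι z') = f'.fiberι z' ≫ m := pullback.lift_fst _ _ _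
    rw [triv_pullback_comp_iff (f'.fiberι z') m hk.symm, ← triv_pullback_comp_iff k (f.fiberι (U.ι z')) rfl]
    exact hz.pullback k (isInvertible_pullback _ hL)
  obtain ⟨V, hzV, h⟩ := affine_near fX' fY' (hfX.of_isPullback hA) (hfY.of_isPullback hB) x' hx' y' hy' σ'
    (pullback.lift_fst _ _ _) (pullback.lift_snd _ _ _) τ' (pullback.lift_fst _ _ _) (pullback.lift_snd _ _ _)
    (isInvertible_pullback m hL)
    ((triv_pullback_comp_iff σ' m hσm).2 ((triv_pullback_comp_iff _ σ rfl).1 (hσ.pullback _ (isInvertible_pullback σ hL))))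
    ((triv_pullback_comp_iff τ' m hτm).2 ((triv_pullback_comp_iff _ τ rfl).1 (hτ.pullback _ (isInvertible_pullback τ hL))))
    z' hz'
  refine ⟨U.ι ''ᵁ V, ⟨z', hzV, rfl⟩, exists_gen_of_pullback' m ?_ h⟩
  exact Opens.ext (AlgebraicGeometry.Scheme.image_preimage_eq_of_isPullback hm.flip (V : Set (U : Scheme.{u})))
where
  exists_gen_of_pullback' {P' P : Scheme.{u}} (m : P' ⟶ P) [IsOpenImmersion m] {L : P.Modules} {W : P'.Opens}
      {A : P.Opens} (hA : m ''ᵁ W = A) (h : ∃ s : Γ((Scheme.Modules.pullback m).obj L, W), Gen W s) :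
      ∃ s : Γ(L, A), Gen A s := by
    obtain ⟨s, hs⟩ := h
    exact exists_gen_of_eq hA ⟨_, (ParaFLib.gen_restrict_iff m _).1
      (gen_of_modIso ((Scheme.Modules.restrictFunctorIsoPullback m).app L).symm hs)⟩

end Groth.Agent.InvNearLib
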